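import Cfsg.Agent.Lib.UW.Field

/-!
# Hilbert 90 and Lang's theorem for finite algebras with a semilinear involution
-/

set_option autoImplicit false
set_option linter.unusedSectionVars false

namespace GUH

open UW

variable {F : Type*} [Field F] [StarRing F] [HF F]

section comm
variable {B : Type*} [CommRing B] [Algebra F B] [Finite B] (σ : B →+* B)
  (hs : ∀ (c : F) x, σ (c • x) = star c • σ x) (hσ : ∀ x, σ (σ x) = x)

theorem exists_idem_pow (r : B) : ∃ n, 0 < n ∧ r ^ n * r ^ n = r ^ n := by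
  obtain ⟨i, j, hij, h⟩ := Finite.exists_ne_map_eq_of_infinite fun n : ℕ => r ^ n
  wlog hlt : i < j generalizing i j
  · exact this j i hij.symm h.symm (by omega)
  obtain ⟨d, rfl⟩ := Nat.exists_eq_add_of_lt hlt
  have h1 : ∀ k, r ^ (i + k * (d + 1)) = r ^ i := fun k => by
    induction k with
    | zero => simp
    | succ k ih => rw [add_one_mul, ← add_assoc, pow_add, ih, ← pow_add, ← add_assoc, ← h]
  refine ⟨(i + 1) * (d + 1), by positivity, ?_⟩
  obtain ⟨m, hm⟩ := Nat.exists_eq_add_of_le (show i ≤ (i + 1) * (d + 1) by nlinarith)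
  rw [← pow_add]
  nth_rw 1 [hm]
  rw [add_right_comm, pow_add, h1, ← pow_add, ← hm]

include hs hσ in
/-- Hilbert 90 -/
theorem h90 {a : B} (ha : a * σ a = 1) : ∃ c, IsUnit (c + a * σ c) := by
  haveI : Finite (Ideal B) := Finite.of_injective _ SetLike.coe_injective
  obtain ⟨c, hc⟩ : ∃ c, ∀ c', {P : Ideal B | P.IsMaximal ∧ c + a * σ c ∈ P}.ncard ≤
      {P : Ideal B | P.IsMaximal ∧ c' + a * σ c' ∈ P}.ncard :=
    ⟨_, fun c' => Function.argmin_le (fun c => {P : Ideal B | P.IsMaximal ∧ c + a * σ c ∈ P}.ncard) c'⟩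
  refine ⟨c, by_contra fun h => ?_⟩
  obtain ⟨P, hP, hb⟩ := exists_max_ideal_of_mem_nonunits h
  obtain ⟨s, h1⟩ : ∃ s, s + a * σ s ∉ P := by
    by_contra! h1
    obtain ⟨θ, hθ⟩ := HF.ex (F := F)
    have h2 := P.sub_mem (h1 (θ • 1)) (P.mul_mem_left (star θ • 1) (h1 1))
    rw [hs, map_one, show θ • (1 : B) + a * star θ • 1 - star θ • 1 * (1 + a * 1) = (θ - star θ) • 1 by
      simp [sub_smul, smul_add], ← Algebra.algebraMap_eq_smul_one] at h2
    exact hP.ne_top (P.eq_top_of_isUnit_mem h2 ((IsUnit.mk0 _ (sub_ne_zero.2 hθ.symm)).map _))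
  set b := c + a * σ c with hb'
  have h2 : σ b = σ a * b := by rw [hb', map_add, map_mul, hσ]; linear_combination (-σ c) * ha
  obtain ⟨n, hn, he⟩ := exists_idem_pow (b * σ b)
  have h3 : σ ((b * σ b) ^ n) = (b * σ b) ^ n := by rw [map_pow, map_mul, hσ, mul_comm]
  have h4 : ∀ Q : Ideal B, Q.IsMaximal → ((b * σ b) ^ n ∈ Q ↔ b ∈ Q) := fun Q hQ =>
    ⟨fun h => ((hQ.isPrime.mem_or_mem (hQ.isPrime.mem_of_pow_mem _ h)).elim id fun h => by
      have := Q.mul_mem_left a h
      rwa [h2, ← mul_assoc, ha, one_mul] at this), fun h => Q.pow_mem_of_mem (Q.mul_mem_right _ h) _ hn⟩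
  generalize (b * σ b) ^ n = e at he h3 h4
  have h5 : c + (1 - e) * s + a * σ (c + (1 - e) * s) = b + (1 - e) * (s + a * σ s) := by
    rw [map_add, map_mul, map_sub, map_one, h3, hb']; ring
  refine (hc (c + (1 - e) * s)).not_gt (Set.ncard_lt_ncard ⟨fun Q hQ => ⟨hQ.1, by_contra fun h6 => h6 ?_⟩, fun h6 => ?_⟩)
  · have h7 := (hQ.1.isPrime.mem_or_mem (show e * (1 - e) ∈ Q by rw [mul_sub, he]; simp)).resolve_left
      (mt (h4 Q hQ.1).1 h6)
    exact (Q.add_mem_iff_left (Q.mul_mem_right _ h7)).1 (h5 ▸ hQ.2)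
  · have h7 := (h6 ⟨hP, hb⟩).2
    rw [h5, P.add_mem_iff_right hb, sub_mul, one_mul] at h7
    exact h1 ((P.sub_mem_iff_left (P.mul_mem_right _ ((h4 P hP).2 hb))).1 h7)

include hs hσ in
/-- the norm is onto the fixed units -/
theorem exists_norm_eq {h : B} (hu : IsUnit h) (hh : σ h = h) : ∃ a, IsUnit a ∧ σ a * a = h := by
  let τ : Bˣ →* Bˣ := Units.map σ.toMonoidHom
  have hτ : ∀ x, τ (τ x) = x := fun x => Units.ext (hσ x)
  let N : Bˣ →* Bˣ := τ * .id _
  let D : Bˣ →* Bˣ := .id _ / τ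
  have h1 : N.ker ≤ D.range := fun a ha => by
    obtain ⟨c, hc⟩ := h90 σ hs hσ (a := a) ((mul_comm _ _).trans (congrArg Units.val ha))
    refine ⟨hc.unit, div_eq_iff_eq_mul.2 (Units.ext ?_)⟩
    have h2 : σ a * a = 1 := congrArg Units.val ha
    change c + a * σ c = a * σ (c + a * σ c)
    rw [map_add, map_mul, hσ]
    linear_combination (-c) * h2
  have h2 : N.range ≤ D.ker := by
    rintro _ ⟨x, rfl⟩
    change (τ x * x) / τ (τ x * x) = 1
    rw [map_mul, hτ, mul_comm, div_self']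
  have h3 := fun f : Bˣ →* Bˣ => f.ker.card_mul_index.trans (rfl : _ = Nat.card Bˣ)
  simp only [Subgroup.index_ker] at h3
  have h4 : Nat.card D.ker ≤ Nat.card N.range := Nat.le_of_mul_le_mul_right (c := Nat.card D.range) (by
    rw [h3, ← h3 N, mul_comm]
    exact Nat.mul_le_mul_left _ (Subgroup.card_le_of_le h1)) Nat.card_pos
  obtain ⟨a, ha⟩ := (Subgroup.eq_of_le_of_card_ge h2 h4).ge (show hu.unit ∈ D.ker from
    div_eq_one.2 (Units.ext hh.symm))
  exact ⟨a, a.isUnit, congrArg Units.val ha⟩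

end comm

variable {A : Type*} [Ring A] [Algebra F A] [Finite A]

variable (F) in
/-- the bicommutant of `z` -/
def Bi (z : A) : Subalgebra F A := Subalgebra.centralizer F (Set.centralizer {z})

theorem mem_Bi {z x : A} : x ∈ Bi F z ↔ ∀ y, z * y = y * z → y * x = x * y := by
  simp [Bi, Subalgebra.mem_centralizer_iff, Set.mem_centralizer_iff]

instance commRingBi (z : A) : CommRing (Bi F z) :=
  { (inferInstance : Ring (Bi F z)) with
    mul_comm := fun x y => Subtype.ext (mem_Bi.1 y.2 _ (mem_Bi.1 x.2 z rfl)) }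

theorem exists_hom_Bi (τ : A →+ A) (hm : ∀ x y, τ (x * y) = τ y * τ x) (h1 : τ 1 = 1) {z : A}
    (hz : ∀ y, z * y = y * z → ∃ y', z * y' = y' * z ∧ τ y' = y) :
    ∃ σ : Bi F z →+* Bi F z, ∀ x, (σ x : A) = τ x :=
  ⟨{ toFun := fun x => ⟨τ x, mem_Bi.2 fun y hy => by
        obtain ⟨y', h, rfl⟩ := hz y hy
        rw [← hm, ← hm, mem_Bi.1 x.2 y' h]⟩
     map_one' := Subtype.ext h1
     map_mul' := fun x y => by rw [mul_comm x]; exact Subtype.ext (hm _ _)
     map_zero' := Subtype.ext τ.map_zero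
     map_add' := fun x y => Subtype.ext (τ.map_add _ _) }, fun _ => rfl⟩

theorem isUnit_Bi {z : A} {x : Bi F z} (h : IsUnit (x : A)) : IsUnit x := by
  obtain ⟨u, hu⟩ := h
  refine IsUnit.of_mul_eq_one ⟨↑u⁻¹, mem_Bi.2 fun y hy => ?_⟩ (Subtype.ext (hu ▸ u.mul_inv))
  rw [Units.mul_inv_eq_iff_eq_mul, mul_assoc, Units.eq_inv_mul_iff_mul_eq, hu, mem_Bi.1 x.2 y hy]

variable [StarRing A] [StarModule F A]

variable (F) in
include F in
/-- a hermitian unit is a norm from its bicommutant -/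
theorem exists_star_mul {h : A} (hu : IsUnit h) (hh : star h = h) :
    ∃ a : Aˣ, star (a : A) * a = h ∧ ∀ y, h * y = y * h → y * a = a * y := by
  obtain ⟨σ, hσ⟩ := exists_hom_Bi (F := F) (starAddEquiv (R := A)).toAddMonoidHom star_mul (star_one A) (z := h)
    fun y hy => ⟨star y, by rw [← hh, ← star_mul, ← star_mul, hy], star_star y⟩
  obtain ⟨a, ⟨u, rfl⟩, h2⟩ := exists_norm_eq (F := F) σ (fun c x => Subtype.ext (by simp [hσ]))
    (fun x => Subtype.ext (by simp [hσ])) (h := ⟨h, mem_Bi.2 fun y hy => hy.symm⟩) (isUnit_Bi hu)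
    (Subtype.ext ((hσ _).trans hh))
  refine ⟨Units.map (Bi F h).val.toMonoidHom u, ?_, mem_Bi.1 u.1.2⟩
  simpa [hσ] using congrArg Subtype.val h2

variable (F) in
include F in
/-- families of unitary elements which are conjugate by a unit are conjugate by a unitary element -/
theorem exists_unitary_conj {ι : Type*} (g g' : ι → unitary A) (x : Aˣ) (h : ∀ i, x * (g i : A) = g' i * x) :
    ∃ y : unitary A, ∀ i, y * g i = g' i * y := by
  obtain ⟨a, h1, h2⟩ := exists_star_mul F (h := star (x : A) * x) (x.isUnit.star.mul x.isUnit) (by simp)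
  have h3 : star ((x : A) * ↑a⁻¹) * (x * ↑a⁻¹) = 1 := by
    rw [star_mul, mul_assoc, ← mul_assoc (star (x : A)), ← h1, mul_assoc, a.mul_inv, mul_one, ← star_mul, a.mul_inv,
      star_one]
  refine ⟨⟨x * ↑a⁻¹, h3, mul_eq_one_comm.1 h3⟩, fun i => Subtype.ext ?_⟩
  have h4 : star (x : A) * g' i = g i * star (x : A) := by
    have := congrArg star (h i)
    rw [star_mul, star_mul] at this
    calc _ = (g i * star (g i : A)) * star (x : A) * g' i := by rw [(g i).2.2, one_mul]
      _ = _ := by rw [mul_assoc (g i : A), this, mul_assoc, mul_assoc, (g' i).2.1, mul_one]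
  have h5 := h2 (g i) (by rw [mul_assoc, h, ← mul_assoc, h4, mul_assoc])
  change x * ↑a⁻¹ * (g i : A) = g' i * (x * ↑a⁻¹)
  rw [← mul_assoc, ← h, mul_assoc, mul_assoc, Units.mul_right_inj, Units.inv_mul_eq_iff_eq_mul, ← mul_assoc, ← h5,
    Units.mul_inv_cancel_right]

variable (F) in
include F in
/-- an element conjugate to the inverse of its adjoint is conjugate to a unitary element -/
theorem exists_conj_unitary {g : A} (X : Aˣ) (h : star g * X * g = X) :
    ∃ (a : Aˣ) (u : unitary A), a * g = u * a := by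
  have h' : star g * star (X : A) * g = star (X : A) := by
    simpa [mul_assoc] using congrArg star h
  let w : Aˣ := X⁻¹ * star X
  have hX : star (X : A) = X * w := by simp [w]
  have hX' : star ((X⁻¹ : Aˣ) : A) = ↑w⁻¹ * ↑X⁻¹ := by simp [w]
  have hw : star (w : A) = X * ↑w⁻¹ * ↑X⁻¹ := by simp [w, mul_assoc]
  let τ : A →+ A := AddMonoidHom.mk' (fun c => ↑X⁻¹ * star c * X) fun x y => by rw [star_add, mul_add, add_mul]
  have hτ : ∀ c, τ c = ↑X⁻¹ * star c * X := fun _ => rfl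
  have hτ2 : ∀ c, τ (τ c) = w * c * ↑w⁻¹ := fun c => by
    simp only [hτ, star_mul, star_star, hX, hX', mul_assoc, Units.inv_mul_cancel_left, Units.inv_mul, mul_one]
  have hm : ∀ x y, τ (x * y) = τ y * τ x := fun x y => by simp [hτ, mul_assoc]
  have hτw : τ w * w = 1 := by simp [hτ, hw, mul_assoc]
  obtain ⟨σ, hσ⟩ := exists_hom_Bi (F := F) τ hm (by simp [hτ]) (z := w) fun y hy => ⟨τ y, by
      have h1 := congrArg τ hy
      rw [hm, hm] at h1
      calc _ = w * (τ y * τ w) * w := by rw [mul_assoc, mul_assoc, hτw, mul_one]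
        _ = _ := by rw [h1, ← mul_assoc, mul_eq_one_comm.1 hτw, one_mul],
    by rw [hτ2, hy, Units.mul_inv_cancel_right]⟩
  obtain ⟨c, hc⟩ := h90 (F := F) σ (fun c x => Subtype.ext (by simp [hσ, hτ]))
    (fun x => Subtype.ext (by rw [hσ, hσ, hτ2, mem_Bi.1 x.2 w rfl, Units.mul_inv_cancel_right]))
    (a := ⟨w, mem_Bi.2 fun y hy => hy.symm⟩) (Subtype.ext ((congrArg (↑w * ·) (hσ _)).trans (mul_eq_one_comm.1 hτw)))
  have hg : IsUnit (star g) := IsUnit.of_mul_eq_one (X * g * ↑X⁻¹) (by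
    rw [← mul_assoc, ← mul_assoc, h, X.mul_inv])
  have h1 : w * g = g * w := (hg.mul X.isUnit).mul_left_cancel (by
    rw [← mul_assoc, mul_assoc _ (X : A), ← hX, h', ← mul_assoc, h, hX])
  have h2 : (X : A) * (c + ⟨w, mem_Bi.2 fun y hy => hy.symm⟩ * σ c : Bi F (w : A)) = (X : A) * (c : A) + star ((X : A) * (c : A)) := by
    rw [mul_comm _ (σ c), star_mul, hX]
    simp [hσ, hτ, mul_add, mul_assoc]
  obtain ⟨a, h3, -⟩ := exists_star_mul F (h := (X : A) * (c : A) + star ((X : A) * (c : A)))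
    (h2 ▸ X.isUnit.mul (hc.map (Bi F (w : A)).val)) (by rw [star_add, star_star, add_comm])
  have h4 : star g * (star (a : A) * a) * g = star (a : A) * a := by
    rw [h3, ← h2, mul_assoc, mul_assoc, ← mem_Bi.1 (Subtype.property _) g h1, ← mul_assoc, ← mul_assoc, h]
  have h5 : star (a * g * ↑a⁻¹) * (a * g * ↑a⁻¹) = 1 := by
    rw [star_mul, star_mul, show ∀ x y z : A, x * (y * z) * (a * g * ↑a⁻¹) = x * (y * (z * a) * g) * ↑a⁻¹ by
      intros; simp only [mul_assoc], h4, ← mul_assoc, ← star_mul, a.mul_inv, star_one, one_mul, a.mul_inv]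
  exact ⟨a, ⟨_, h5, mul_eq_one_comm.1 h5⟩, by simp⟩

variable (F A) in
include F in
/-- orbit count -/
theorem card_units_eq : Nat.card Aˣ = Nat.card (unitary A) * Nat.card {h : Aˣ // star (h : A) = h} := by
  choose s hs using fun h : {h : Aˣ // star (h : A) = h} => exists_star_mul F h.1.isUnit h.2
  rw [← Nat.card_prod]
  refine (Nat.card_congr (Equiv.ofBijective (fun x : unitary A × {h : Aˣ // star (h : A) = h} =>
    Unitary.toUnits x.1 * s x.2) ⟨?_, fun a => ?_⟩)).symm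
  · rintro ⟨u, h⟩ ⟨u', h'⟩ e
    have h1 : ∀ (u : unitary A) h, star ((Unitary.toUnits u * s h : Aˣ) : A) * (Unitary.toUnits u * s h : Aˣ) = h.1 :=
      fun u h => by
        rw [← (hs h).1]
        change star ((u : A) * _) * (u * _) = _
        rw [star_mul, mul_assoc, ← mul_assoc (star (u : A)), u.2.1, one_mul]
    obtain rfl : h = h' := Subtype.ext (Units.ext (by rw [← h1 u, ← h1 u']; exact congrArg (fun x : Aˣ => star (x : A) * x) e))
    exact Prod.ext (Unitary.toUnits_injective (mul_right_cancel e)) rfl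
  · let h : {h : Aˣ // star (h : A) = h} := ⟨star a * a, by simp⟩
    have h3 : star ((a : A) * ↑(s h)⁻¹) * (a * ↑(s h)⁻¹) = 1 := by
      rw [star_mul, mul_assoc, ← mul_assoc (star (a : A)), show star (a : A) * a = h.1 from rfl, ← (hs h).1, mul_assoc,
        (s h).mul_inv, mul_one, ← star_mul, (s h).mul_inv, star_one]
    exact ⟨⟨⟨_, h3, mul_eq_one_comm.1 h3⟩, h⟩, Units.ext (by simp)⟩

end GUH
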