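import Cfsg.Agent.Lib.GU.OrbG
import Cfsg.Agent.Lib.GU.WallU

/-!
# S4537: regular isometries in terms of the characteristic polynomial
-/

set_option autoImplicit false
set_option linter.unusedSectionVars false

namespace GUH

open Finset Polynomial Cfsg UW GUW Module
open scoped Classical

universe u

variable {F : Type u} [Field F] [Fintype F] [StarRing F] [HF F] {K : Type} [Field K] [Fintype K] [Algebra F K]
  {V : Type*} [AddCommGroup V] [Module F V] [Fintype V]

namespace UC

variable (C : UC F K) (H : HS F V) (hV : finrank F V ≤ C.N) (g : H.U)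
include hV

theorem exists_ht : ∃ τ, HT C.P C.deg (H.lin g) τ ∧ (H.lin g).charpoly = ∏ θ, C.P θ ^ (τ θ).sum :=
  (U_dec C.famU g (C.sp H hV g)).imp fun _ h => ⟨h.ht C.famU.toFam, h.charpoly C.famU.toFam⟩

theorem P_dvd_charpoly {x : Kˣ} : C.P (C.cl x) ∣ (H.lin g).charpoly ↔ aeval (x : K) (H.lin g).charpoly = 0 := by
  obtain ⟨τ, -, h⟩ := C.exists_ht H hV g
  rw [h, P_dvd_prod, aeval_prod_P]

theorem reg_iff : IsPRegular C.p g ↔ ∀ θ, C.P θ ∣ (H.lin g).charpoly → C.par θ = θ := by
  obtain ⟨τ, -, h⟩ := C.exists_ht H hV g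
  simp only [C.reg_iff_of_charpoly H hV h, h, P_dvd_prod]

end UC

end GUH
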