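import Cfsg.Agent.Lib.GU.DefA
import Cfsg.Agent.Lib.GU.DefB
import Cfsg.Agent.Lib.GU.Ub
import Cfsg.Agent.Lib.GU.Cn

/-!
# S4537: conjugate pieces have labels of the same class
-/

set_option autoImplicit false
set_option linter.unusedSectionVars false

namespace GUH.Df

open Finset Cfsg CT GT BT UW GLH GUL Module
open scoped Classical MonoidAlgebra Pointwise

universe u

variable {F : Type u} [Field F] [Fintype F] [StarRing F] [HF F] {K : Type} [Field K] [Fintype K]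
  [Algebra F K] {C : UC F K} {A : Type} [CommRing A] [Algebra ℂ A] (U : UB C A)
variable {V V₁ V₂ : Type u} [AddCommGroup V] [Module F V] [Fintype V] [AddCommGroup V₁]
  [Module F V₁] [Fintype V₁] [AddCommGroup V₂] [Module F V₂] [Fintype V₂] {H : HS F V}
  {H₁ : HS F V₁} {H₂ : HS F V₂}

theorem isL_trU (e : V₁ ≃ₗ[F] V₂) (he : ∀ x y, H₂.b (e x) (e y) = H₁.b x y)
    (hn : finrank F V₁ ≤ C.N) {χ : IrrCharacter H₁.U} {Λ : C.Th → Finset ℕ}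
    (h : IsL C.N U.π (U.ch H₁) χ Λ) : IsL C.N U.π (U.ch H₂) (irrCongr (trU e he) χ) Λ := by
  obtain ⟨ε, h1, h2⟩ := h
  refine ⟨ε, h1, funext fun g => ?_⟩
  obtain ⟨g, rfl⟩ := (trU e he).surjective g
  rw [Pi.smul_apply, ← U.iso H₁ H₂ hn e g _ (fun v => (trU_smul e he g v).symm), ← Pi.smul_apply,
    ← h2]
  exact congrArg χ.1 ((trU e he).symm_apply_apply g)

theorem cls_of_conj (E₁ : Eb H₁ H) (E₂ : Eb H₂ H) {n₁ n₂ : ℕ} (h₁ : finrank F V₁ = n₁)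
    (h₂ : finrank F V₂ = n₂) (hn : n₁ ≤ C.N) {B₁ : Set (IrrCharacter H₁.U)}
    {B₂ : Set (IrrCharacter H₂.U)} (hB₁ : IsPBlock C.M B₁) (hB₂ : IsPBlock C.M B₂)
    {χ₁ : IrrCharacter H₁.U} {χ₂ : IrrCharacter H₂.U} (m₁ : χ₁ ∈ B₁) (m₂ : χ₂ ∈ B₂)
    {Λ₁ Λ₂ : C.Th → Finset ℕ} (l₁ : C.Lab n₁ Λ₁) (l₂ : C.Lab n₂ Λ₂)
    (i₁ : IsL C.N U.π (U.ch H₁) χ₁ Λ₁) (i₂ : IsL C.N U.π (U.ch H₂) χ₂ Λ₂) {g : H.U}
    (hg : MulAut.conj g • GD H (LinearMap.range E₁.L) = GD H (LinearMap.range E₂.L))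
    (hc : cj g (gm E₁.ι (idem C.hM B₁)) = gm E₂.ι (idem C.hM B₂)) : C.Cls Λ₁ Λ₂ := by
  obtain ⟨e, he, -, h3⟩ := E₁.exists_pull E₂ (Mp.of_conj E₁.nd E₂.nd hg)
  have h4 : n₁ = n₂ := by rw [← h₁, ← h₂, e.finrank_eq]
  subst h4
  have h5 : idem C.hM (mapSet (trU e he) B₁) = idem C.hM B₂ := ga_ext fun a => by
    obtain ⟨a, rfl⟩ := (trU e he).surjective a
    rw [← coeff_gm E₂.inj (idem C.hM B₂), ← hc, coeff_cj, h3, coeff_idem, blockCoeff_mapSet,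
      ← coeff_idem, ← coeff_gm E₁.inj]
    congr 1
    group
  have h6 : mapSet (trU e he) B₁ = B₂ := idem_injective C.hM (isPBlock_mapSet _ hB₁) hB₂ h5
  exact (U.ld H₂ h₂ hn).cls_of_block hB₂ (h6 ▸ (irrCongr_mem_mapSet_iff _ _ _).2 m₁) m₂ l₁ l₂
    (isL_trU U e he (h₁ ▸ hn) i₁) i₂

theorem eq_of_cls_single {Λ₁ Λ₂ : C.Th → Finset ℕ} (h : C.Cls Λ₁ Λ₂) {θ₁ θ₂ : C.Th}
    (p₁ : C.par θ₁ = θ₁) (p₂ : C.par θ₂ = θ₂) (s₁ : ∀ i, i ≠ θ₁ → Λ₁ i = range C.N)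
    (s₂ : ∀ i, i ≠ θ₂ → Λ₂ i = range C.N) (h0 : sz C.N (Λ₁ θ₁) ≠ 0) : θ₁ = θ₂ := by
  by_contra hne
  have a₁ : C.PLab Λ₁ := fun i hi => s₁ i fun e => hi (e ▸ p₁)
  have a₂ : C.PLab Λ₂ := fun i hi => s₂ i fun e => hi (e ▸ p₂)
  have := (h θ₁ p₁).1
  rw [OD.msz_plab a₁ p₁, OD.msz_plab a₂ p₁, s₂ θ₁ hne] at this
  exact h0 (this.trans (by simp [sz, SFock.d0]))

end GUH.Df
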